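import Groth.Agent.NLConvLib.Fibre
import Mathlib.RingTheory.Extension.Cotangent.BaseChange
import Mathlib.RingTheory.IsTensorProduct

/-!
# Conormal modules along a cocartesian square
-/

set_option autoImplicit false
set_option backward.isDefEq.respectTransparency.types false

universe u

open TensorProduct Algebra

namespace NLBCLib

variable {R S R' S' : Type u} [CommRing R] [CommRing S] [CommRing R'] [CommRing S']
  [Algebra R S] [Algebra R' S'] [Algebra R R'] [Algebra S S'] [Algebra R S']
  [IsScalarTower R R' S'] [IsScalarTower R S S'] [Algebra.IsPushout R R' S S']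
  {E : Algebra.Extension.{u} R S} {E' : Algebra.Extension.{u} R' S'} (f : E.Hom E')

theorem algebraMap_pushout (e : R' ⊗[R] E.Ring ≃ₐ[R'] E'.Ring) (he : ∀ x, e (1 ⊗ₜ x) = f.toRingHom x)
    (z : R' ⊗[R] E.Ring) :
    algebraMap E'.Ring S' (e z) = Algebra.IsPushout.equiv R R' S S'
      (Algebra.TensorProduct.map (AlgHom.id R' R') (IsScalarTower.toAlgHom R E.Ring S) z) := by
  induction z with
  | zero => simp
  | add a b ha hb => simp only [map_add, ha, hb]
  | tmul t x =>
    rw [Algebra.TensorProduct.map_tmul, Algebra.IsPushout.equiv_tmul,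
      show t ⊗ₜ[R] x = t • ((1 : R') ⊗ₜ[R] x) by rw [smul_tmul', smul_eq_mul, mul_one], map_smul, he,
      Algebra.smul_def, map_mul, ← IsScalarTower.algebraMap_apply, f.algebraMap_toRingHom]
    rfl

theorem ker_eq (e : R' ⊗[R] E.Ring ≃ₐ[R'] E'.Ring) (he : ∀ x, e (1 ⊗ₜ x) = f.toRingHom x) :
    E'.ker.comap (e : R' ⊗[R] E.Ring →ₐ[R'] E'.Ring).toRingHom =
      E.ker.map (Algebra.TensorProduct.includeRight : E.Ring →ₐ[R] R' ⊗[R] E.Ring) := by
  have h := Algebra.TensorProduct.lTensor_ker (A := R') (g := IsScalarTower.toAlgHom R E.Ring S) E.algebraMap_surjective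
  refine (Ideal.ext fun z => ?_).trans h
  change algebraMap E'.Ring S' (e z) = 0 ↔ _
  rw [algebraMap_pushout f e he z, EmbeddingLike.map_eq_zero_iff]
  rfl

/-- `R' ⊗ I/I² → I'/I'²`. -/
noncomputable def psi : R' ⊗[R] E.Cotangent →ₗ[R'] E'.Cotangent :=
  LinearMap.liftBaseChange R' ((Algebra.Extension.Cotangent.map f).restrictScalars R)

theorem psi_surjective (e : R' ⊗[R] E.Ring ≃ₐ[R'] E'.Ring) (he : ∀ x, e (1 ⊗ₜ x) = f.toRingHom x) :
    Function.Surjective (psi f) := by
  intro y
  obtain ⟨⟨y, hy⟩, rfl⟩ := Algebra.Extension.Cotangent.mk_surjective y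
  obtain ⟨z, rfl⟩ := e.surjective y
  have hz : z ∈ E.ker.map (Algebra.TensorProduct.includeRight : E.Ring →ₐ[R] R' ⊗[R] E.Ring) := by
    rw [← ker_eq f e he]; exact hy
  obtain ⟨w, rfl⟩ := E.ker.map_includeRight_eq.le hz
  induction w with
  | zero => exact ⟨0, by simp only [map_zero]; exact (map_zero _).symm⟩
  | add a b ha hb =>
    have hmem : ∀ w : R' ⊗[R] E.ker, e (LinearMap.lTensor R' (E.ker.subtype.restrictScalars R) w) ∈ E'.ker := fun w => by
      have : LinearMap.lTensor R' (E.ker.subtype.restrictScalars R) w ∈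
          E.ker.map (Algebra.TensorProduct.includeRight : E.Ring →ₐ[R] R' ⊗[R] E.Ring) :=
        E.ker.map_includeRight_eq.ge ⟨w, rfl⟩
      rw [← ker_eq f e he] at this
      exact this
    obtain ⟨a', ha'⟩ := ha (hmem a) (E.ker.map_includeRight_eq.ge ⟨a, rfl⟩)
    obtain ⟨b', hb'⟩ := hb (hmem b) (E.ker.map_includeRight_eq.ge ⟨b, rfl⟩)
    refine ⟨a' + b', ?_⟩
    rw [map_add, ha', hb', ← map_add]
    congr 1
    exact Subtype.ext (by simp)
  | tmul t x =>
    refine ⟨t ⊗ₜ Algebra.Extension.Cotangent.mk x, ?_⟩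
    rw [psi, LinearMap.liftBaseChange_tmul, LinearMap.coe_restrictScalars, Algebra.Extension.Cotangent.map_mk,
      ← LinearMap.map_smul_of_tower]
    congr 1
    refine Subtype.ext ?_
    change t • f.toRingHom (x : E.Ring) = e (t ⊗ₜ (x : E.Ring))
    rw [show t ⊗ₜ[R] (x : E.Ring) = t • ((1 : R') ⊗ₜ[R] (x : E.Ring)) by rw [smul_tmul', smul_eq_mul, mul_one],
      map_smul, he]

theorem psi_injective (e : R' ⊗[R] E.Ring ≃ₐ[R'] E'.Ring) (he : ∀ x, e (1 ⊗ₜ x) = f.toRingHom x)
    (hinj : Function.Injective (E.ker.tensorCotangentHom R R')) : Function.Injective (psi f) := by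
  let J := E.ker.map (Algebra.TensorProduct.includeRight : E.Ring →ₐ[R] R' ⊗[R] E.Ring).toRingHom
  have hJ : J = E'.ker.comap (e : R' ⊗[R] E.Ring →ₐ[R'] E'.Ring).toRingHom := (ker_eq f e he).symm
  let M := Ideal.mapCotangent J E'.ker e.toAlgHom hJ.le
  let M' := Ideal.mapCotangent E'.ker J e.symm.toAlgHom (fun y hy => by
    rw [Ideal.mem_comap, hJ, Ideal.mem_comap]
    change e (e.symm y) ∈ _
    rwa [e.apply_symm_apply])
  have hM : Function.Injective M := Function.LeftInverse.injective (g := M') fun x => by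
    obtain ⟨⟨x, hx⟩, rfl⟩ := Ideal.toCotangent_surjective _ x
    rw [Ideal.mapCotangent_toCotangent, Ideal.mapCotangent_toCotangent]
    congr 1
    exact Subtype.ext (e.symm_apply_apply x)
  let e₁ := TensorProduct.AlgebraTensorModule.congr (.refl R' R')
    (E.cotangentEquivCotangentKer.restrictScalars R)
  let e₃ := E'.cotangentEquivCotangentKer.symm.restrictScalars R'
  have heq : psi f = e₃.toLinearMap ∘ₗ M ∘ₗ E.ker.tensorCotangentHom R R' ∘ₗ e₁.toLinearMap := by
    refine TensorProduct.AlgebraTensorModule.ext fun t x => ?_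
    obtain ⟨x, rfl⟩ := Algebra.Extension.Cotangent.mk_surjective x
    simp only [psi, e₁, e₃, LinearMap.liftBaseChange_tmul, LinearMap.coe_restrictScalars,
      LinearMap.comp_apply, LinearEquiv.coe_coe, TensorProduct.AlgebraTensorModule.congr_tmul,
      LinearEquiv.refl_apply, LinearEquiv.restrictScalars_apply,
      Algebra.Extension.cotangentEquivCotangentKer_apply, Algebra.Extension.Cotangent.val_mk,
      Ideal.tensorCotangentHom_tmul, map_smul, Algebra.Extension.Cotangent.map_mk]
    rw [Ideal.tensorCotangentHom_tmul]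
    refine Eq.trans ?_ (congrArg (⇑e₃) (M.map_smul t _).symm)
    refine Eq.trans ?_ (e₃.map_smul t _).symm
    refine congrArg (fun z => t • z) ?_
    apply E'.cotangentEquivCotangentKer.injective
    refine Eq.trans ?_ (E'.cotangentEquivCotangentKer.apply_symm_apply _).symm
    refine Eq.trans ?_ (Ideal.mapCotangent_toCotangent J E'.ker e.toAlgHom hJ.le _).symm
    simp only [Algebra.Extension.cotangentEquivCotangentKer_apply, Algebra.Extension.Cotangent.val_mk]
    refine congrArg _ (Subtype.ext ?_)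
    exact (he _).symm
  rw [heq]
  exact e₃.injective.comp (hM.comp (hinj.comp e₁.injective))

/-- `S' ⊗ I/I² → I'/I'²`. -/
theorem liftBaseChange_eq :
    ((Algebra.Extension.Cotangent.map f).liftBaseChange S').restrictScalars R' =
      psi f ∘ₗ (Algebra.IsPushout.cancelBaseChange R R' S S' E.Cotangent).toLinearMap := by
  refine LinearMap.ext fun z => ?_
  obtain ⟨w, rfl⟩ := (Algebra.IsPushout.cancelBaseChange R R' S S' E.Cotangent).symm.surjective z
  rw [LinearMap.comp_apply, LinearEquiv.coe_coe, LinearEquiv.apply_symm_apply]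
  induction w with
  | zero => simp
  | add a b ha hb => simp only [map_add, ha, hb]
  | tmul t x =>
    simp only [psi, Algebra.IsPushout.cancelBaseChange_symm_tmul, LinearMap.liftBaseChange_tmul,
      LinearMap.coe_restrictScalars, algebraMap_smul]

theorem cotangent_surjective (e : R' ⊗[R] E.Ring ≃ₐ[R'] E'.Ring) (he : ∀ x, e (1 ⊗ₜ x) = f.toRingHom x) :
    Function.Surjective ((Algebra.Extension.Cotangent.map f).liftBaseChange S') := by
  have := (psi_surjective f e he).comp (Algebra.IsPushout.cancelBaseChange R R' S S' E.Cotangent).surjective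
  rwa [← LinearEquiv.coe_coe, ← LinearMap.coe_comp, ← liftBaseChange_eq] at this

theorem cotangent_injective (e : R' ⊗[R] E.Ring ≃ₐ[R'] E'.Ring) (he : ∀ x, e (1 ⊗ₜ x) = f.toRingHom x)
    (h : Module.Flat R R' ∨ Module.Flat R S) :
    Function.Injective ((Algebra.Extension.Cotangent.map f).liftBaseChange S') := by
  have hinj : Function.Injective (E.ker.tensorCotangentHom R R') := by
    rcases h with h | h
    · exact (E.ker.tensorCotangentEquiv R R').injective
    · haveI : Module.Flat R (E.Ring ⧸ E.ker) :=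
        Module.Flat.of_linearEquiv ((Ideal.quotientKerAlgEquivOfSurjective
          (f := IsScalarTower.toAlgHom R E.Ring S) E.algebraMap_surjective).toLinearEquiv)
      exact NLConvLib.tensorCotangentHom_injective R' E.ker
  have := (psi_injective f e he hinj).comp (Algebra.IsPushout.cancelBaseChange R R' S S' E.Cotangent).injective
  rwa [← LinearEquiv.coe_coe, ← LinearMap.coe_comp, ← liftBaseChange_eq] at this

end NLBCLib
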