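import Groth.Agent.NLBCLib.Main
import Groth.Agent.DRingLib.LBaseChange
import Groth.Agent.DRingLib.Amplitude

/-!
# Derived base change of the naive cotangent complex
-/

set_option autoImplicit false
set_option backward.isDefEq.respectTransparency.types false
set_option backward.isDefEq.respectTransparency false

universe u

open CategoryTheory CategoryTheory.Limits TensorProduct Algebra
open Groth.Agent

attribute [local instance] HasDerivedCategory.standard

noncomputable section

namespace NLBCLib

variable {A B : Type u} [CommRing A] [CommRing B] [Algebra A B] (B' : Type u) [CommRing B']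

/-- The tensored complex is the base change of the complex. -/
theorem nonempty_bcCx_iso_ext (P : Extension.{u} A B) (ψ : B →+* B') :
    letI := ψ.toAlgebra
    Nonempty (NLCx.bcCx P B' ≅
      ((ModuleCat.extendScalars.{u, u, u} ψ).mapHomologicalComplex (ComplexShape.up ℤ)).obj (NLCx.cx P)) := by
  letI := ψ.toAlgebra
  let F := ModuleCat.extendScalars.{u, u, u} ψ
  let e₀ := HomologicalComplex.doubleXIso₀ (ModuleCat.ofHom P.cotangentComplex) (show (ComplexShape.up ℤ).Rel (-1) 0 by simp)
  let e₁ := HomologicalComplex.doubleXIso₁ (ModuleCat.ofHom P.cotangentComplex) (show (ComplexShape.up ℤ).Rel (-1) 0 by simp) (by decide)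
  let i₀ : ModuleCat.of B' (B' ⊗[B] P.Cotangent) ≅ F.obj (ModuleCat.of B P.Cotangent) := Iso.refl _
  let i₁ : ModuleCat.of B' (B' ⊗[B] P.CotangentSpace) ≅ F.obj (ModuleCat.of B P.CotangentSpace) := Iso.refl _
  let φ : NLCx.bcCx P B' ⟶ (F.mapHomologicalComplex (ComplexShape.up ℤ)).obj (NLCx.cx P) :=
    HomologicalComplex.mkHomFromDouble _ (by decide) (i₀.hom ≫ F.map e₀.inv) (i₁.hom ≫ F.map e₁.inv)
      (by
        rw [Functor.mapHomologicalComplex_obj_d,
          show (NLCx.cx P).d (-1) 0 = _ from HomologicalComplex.double_d _ _ (by decide), Category.assoc,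
          ← F.map_comp, Iso.inv_hom_id_assoc, F.map_comp, ← Category.assoc, ← Category.assoc]
        refine congrArg (· ≫ _) (ModuleCat.hom_ext (LinearMap.ext fun z => ?_))
        induction z using TensorProduct.induction_on with
        | zero => exact (map_zero _).trans (map_zero _).symm
        | tmul t x => rfl
        | add a b ha hb => exact (map_add _ a b).trans ((congrArg₂ (· + ·) ha hb).trans (map_add _ a b).symm))
      (fun k hk => (F.map_isZero (isZero_cx_X P k (by simp at hk; omega) (by simp at hk; omega))).eq_of_tgt _ _)
  haveI : IsIso φ := by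
    refine isIso_two φ (fun i a b => F.map_isZero (isZero_cx_X P i a b)) ?_ ?_
    · simp only [φ, HomologicalComplex.mkHomFromDouble_f₀]
      infer_instance
    · simp only [φ, HomologicalComplex.mkHomFromDouble_f₁]
      infer_instance
  exact ⟨asIso φ⟩

theorem nonempty_bcCx_iso [inst : Algebra B B'] (P : Extension.{u} A B) :
    Nonempty (NLCx.bcCx P B' ≅
      ((ModuleCat.extendScalars.{u, u, u} (algebraMap B B')).mapHomologicalComplex (ComplexShape.up ℤ)).obj (NLCx.cx P)) := by
  have h := nonempty_bcCx_iso_ext B' P (algebraMap B B')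
  rwa [show (algebraMap B B').toAlgebra = inst from Algebra.algebra_ext _ _ fun _ => rfl] at h

/-- A complex with flat conormal module is K-flat. -/
theorem isKFlat_cx {ι : Type u} (G : Generators A B ι) [Module.Flat B G.toExtension.Cotangent] :
    DRing.IsKFlat B (NLCx.cx G.toExtension) := by
  refine DRingLib.isKFlat_of_flatAmplitude (a := -1) (c := 0) (fun i hi => isZero_cx_X _ i (by omega) (by omega)) fun i => ?_
  haveI : Module.Free B G.toExtension.CotangentSpace := Module.Free.of_basis G.cotangentSpaceBasis
  by_cases hi : i = -1
  · subst hi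
    exact Module.Flat.of_linearEquiv (HomologicalComplex.doubleXIso₀ (ModuleCat.ofHom G.toExtension.cotangentComplex)
      (show (ComplexShape.up ℤ).Rel (-1) 0 by simp)).toLinearEquiv
  by_cases hi' : i = 0
  · subst hi'
    exact Module.Flat.of_linearEquiv (HomologicalComplex.doubleXIso₁ (ModuleCat.ofHom G.toExtension.cotangentComplex)
      (show (ComplexShape.up ℤ).Rel (-1) 0 by simp) (by decide)).toLinearEquiv
  haveI := ModuleCat.subsingleton_of_isZero (isZero_cx_X G.toExtension i hi hi')
  haveI : Module.Free B ((NLCx.cx G.toExtension).X i) := Module.Free.of_subsingleton B _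
  exact inferInstance

end NLBCLib
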