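import Groth.Prelude.Def_SheafNL
import Groth.Agent.NLBCLib.Cotangent
import Mathlib.RingTheory.TensorProduct.MvPolynomial
import Mathlib.Algebra.Homology.Homotopy

/-!
# The naive cotangent complex along cocartesian squares
-/

set_option autoImplicit false
set_option backward.isDefEq.respectTransparency.types false
set_option backward.isDefEq.respectTransparency false

universe u

open CategoryTheory CategoryTheory.Limits TensorProduct Algebra MvPolynomial

noncomputable section

namespace NLBCLib

section Two

variable {A : Type*} [Category A] [Preadditive A] [HasZeroObject A] {X₀ X₁ : A} {f : X₀ ⟶ X₁}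
  {hf : (ComplexShape.up ℤ).Rel (-1) 0} {K : CochainComplex A ℤ}

/-- A homotopy out of a two term complex. -/
def homotopyTwo (φ ψ : HomologicalComplex.double f hf ⟶ K) (h : X₁ ⟶ K.X (-1))
    (hK : ∀ i : ℤ, i ≠ -1 → i ≠ 0 → IsZero (K.X i))
    (h₀ : φ.f (-1) - ψ.f (-1) = (HomologicalComplex.doubleXIso₀ f hf).hom ≫ f ≫ h)
    (h₁ : φ.f 0 - ψ.f 0 = (HomologicalComplex.doubleXIso₁ f hf (by decide)).hom ≫ h ≫ K.d (-1) 0) :
    Homotopy φ ψ :=
  let H : ∀ i j, (ComplexShape.up ℤ).Rel j i → ((HomologicalComplex.double f hf).X i ⟶ K.X j) := fun i j _ =>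
    if hij : i = 0 ∧ j = -1 then
      eqToHom (by rw [hij.1]) ≫ (HomologicalComplex.doubleXIso₁ f hf (by decide)).hom ≫ h ≫ eqToHom (by rw [hij.2])
    else 0
  Homotopy.equivSubZero.symm ((Homotopy.ofEq (show φ - ψ = Homotopy.nullHomotopicMap' H by
    refine HomologicalComplex.hom_ext _ _ fun i => ?_
    rw [HomologicalComplex.sub_f_apply]
    by_cases hi : i = -1
    · subst hi
      rw [Homotopy.nullHomotopicMap'_f (k₂ := -2) (k₀ := 0) (show (-2 : ℤ) + 1 = -1 by decide)
        (show (-1 : ℤ) + 1 = 0 by decide), h₀, HomologicalComplex.double_d _ _ (by decide)]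
      simp [H]
    by_cases hi' : i = 0
    · subst hi'
      rw [Homotopy.nullHomotopicMap'_f (k₂ := -1) (k₀ := 1) (show (-1 : ℤ) + 1 = 0 by decide)
        (show (0 : ℤ) + 1 = 1 by decide), h₁, HomologicalComplex.double_d_eq_zero₀ _ _ _ _ (by decide)]
      simp [H]
    · exact (hK i hi hi').eq_of_tgt _ _)).trans (Homotopy.nullHomotopy' H))

theorem isIso_two (φ : HomologicalComplex.double f hf ⟶ K) (hK : ∀ i : ℤ, i ≠ -1 → i ≠ 0 → IsZero (K.X i))
    (h₀ : IsIso (φ.f (-1))) (h₁ : IsIso (φ.f 0)) : IsIso φ := by
  haveI : ∀ i, IsIso (φ.f i) := fun i => by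
    by_cases hi : i = -1
    · subst hi; exact h₀
    by_cases hi' : i = 0
    · subst hi'; exact h₁
    · exact ((HomologicalComplex.isZero_double_X f hf i hi hi').iso (hK i hi hi')).isIso_hom |> fun h => by
        rwa [(HomologicalComplex.isZero_double_X f hf i hi hi').eq_of_src (φ.f i) _]
  exact HomologicalComplex.Hom.isIso_of_components φ

end Two

section Bc

variable {R S R' S' : Type u} [CommRing R] [CommRing S] [CommRing R'] [CommRing S']
  [Algebra R S] [Algebra R' S'] [Algebra R R'] [Algebra S S'] [Algebra R S']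
  [IsScalarTower R R' S'] [IsScalarTower R S S']

theorem isZero_cx_X (P : Extension.{u} R S) (i : ℤ) (h₀ : i ≠ -1) (h₁ : i ≠ 0) : IsZero ((NLCx.cx P).X i) :=
  HomologicalComplex.isZero_double_X _ _ i h₀ h₁

/-- The maps of two morphisms of extensions are homotopic. -/
def homotopyBcMap {P : Extension.{u} R S} {P' : Extension.{u} R' S'} (f g : P.Hom P') :
    Homotopy (NLCx.bcMap f) (NLCx.bcMap g) :=
  homotopyTwo _ _ (ModuleCat.ofHom ((f.sub g).liftBaseChange S') ≫
      (HomologicalComplex.doubleXIso₀ (ModuleCat.ofHom P'.cotangentComplex) _).inv)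
    (fun i h₀ h₁ => isZero_cx_X P' i h₀ h₁)
    (by
      simp only [NLCx.bcMap, HomologicalComplex.mkHomFromDouble_f₀, ← Preadditive.comp_sub, ← Preadditive.sub_comp]
      refine congrArg (_ ≫ ·) ((congrArg (· ≫ _) ?_).trans (Category.assoc _ _ _))
      refine ModuleCat.hom_ext (TensorProduct.AlgebraTensorModule.ext fun t x => ?_)
      change t • Extension.Cotangent.map f x - t • Extension.Cotangent.map g x =
        t • (f.sub g) (P.cotangentComplex x)
      rw [← smul_sub, ← LinearMap.sub_apply, Extension.Cotangent.map_sub_map]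
      rfl)
    (by
      simp only [NLCx.bcMap, HomologicalComplex.mkHomFromDouble_f₁, ← Preadditive.comp_sub, ← Preadditive.sub_comp]
      rw [show (NLCx.cx P').d (-1) 0 = _ from HomologicalComplex.double_d _ _ (by decide)]
      simp only [Category.assoc, Iso.inv_hom_id_assoc]
      refine congrArg (_ ≫ ·) ((congrArg (· ≫ _) ?_).trans (Category.assoc _ _ _))
      refine ModuleCat.hom_ext (TensorProduct.AlgebraTensorModule.ext fun t x => ?_)
      change t • Extension.CotangentSpace.map f x - t • Extension.CotangentSpace.map g x =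
        P'.cotangentComplex (t • (f.sub g) x)
      refine (smul_sub t _ _).symm.trans (Eq.trans (congrArg (t • ·) ?_) (map_smul P'.cotangentComplex t _).symm)
      exact LinearMap.congr_fun (Extension.CotangentSpace.map_sub_map f g) x)

theorem bijective_cotangentSpace {ι : Type u} (G : Generators R S ι) (G' : Generators R' S' ι)
    (h : ∀ i, G'.val i = algebraMap S S' (G.val i)) :
    Function.Bijective ((Extension.CotangentSpace.map (NLCx.sameVarsHom G G' h).toExtensionHom).liftBaseChange S') := by
  classical
  let b := G.cotangentSpaceBasis.baseChange S'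
  have : (Extension.CotangentSpace.map (NLCx.sameVarsHom G G' h).toExtensionHom).liftBaseChange S' =
      (b.equiv G'.cotangentSpaceBasis (Equiv.refl ι)).toLinearMap := by
    refine b.ext fun i => G'.cotangentSpaceBasis.repr.injective (Finsupp.ext fun j => ?_)
    rw [LinearEquiv.coe_coe, Module.Basis.equiv_apply, Equiv.refl_apply, Module.Basis.repr_self]
    simp only [b, Module.Basis.baseChange_apply, LinearMap.liftBaseChange_tmul, one_smul,
      Generators.repr_CotangentSpaceMap]
    simp [NLCx.sameVarsHom, pderiv_X, Pi.single_apply, Finsupp.single_apply, eq_comm]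
  rw [this]
  exact LinearEquiv.bijective _

/-- The polynomial rings of a presentation and of its base change. -/
def ringEquiv {ι : Type u} (G : Generators R S ι) (G' : Generators R' S' ι) :
    R' ⊗[R] G.toExtension.Ring ≃ₐ[R'] G'.toExtension.Ring :=
  MvPolynomial.algebraTensorAlgEquiv R R'

theorem ringEquiv_tmul {ι : Type u} (G : Generators R S ι) (G' : Generators R' S' ι)
    (h : ∀ i, G'.val i = algebraMap S S' (G.val i)) (x : G.toExtension.Ring) :
    ringEquiv G G' (1 ⊗ₜ x) = (NLCx.sameVarsHom G G' h).toExtensionHom.toRingHom x := by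
  change MvPolynomial.algebraTensorAlgEquiv R R' (1 ⊗ₜ x) = (NLCx.sameVarsHom G G' h).toAlgHom x
  rw [MvPolynomial.algebraTensorAlgEquiv_tmul, one_smul]
  have e : (NLCx.sameVarsHom G G' h).toAlgHom = MvPolynomial.mapAlgHom (Algebra.ofId R R') := by
    refine MvPolynomial.algHom_ext fun i => ?_
    rw [Generators.Hom.toAlgHom_X]
    simp [NLCx.sameVarsHom]
  rw [e]
  rfl

variable [Algebra.IsPushout R R' S S']

theorem isIso_bcMap {ι : Type u} (G : Generators R S ι) (G' : Generators R' S' ι)
    (h : ∀ i, G'.val i = algebraMap S S' (G.val i)) (hfl : Module.Flat R R' ∨ Module.Flat R S) :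
    IsIso (NLCx.bcMap (S' := S') (NLCx.sameVarsHom G G' h).toExtensionHom) := by
  let f := (NLCx.sameVarsHom G G' h).toExtensionHom
  have h₀ : IsIso (ModuleCat.ofHom ((Extension.Cotangent.map f).liftBaseChange S')) :=
    (ConcreteCategory.isIso_iff_bijective _).2
      ⟨cotangent_injective f _ (ringEquiv_tmul G G' h) hfl, cotangent_surjective f _ (ringEquiv_tmul G G' h)⟩
  have h₁ : IsIso (ModuleCat.ofHom ((Extension.CotangentSpace.map f).liftBaseChange S')) :=
    (ConcreteCategory.isIso_iff_bijective _).2 (bijective_cotangentSpace G G' h)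
  refine isIso_two _ (fun i a b => isZero_cx_X G'.toExtension i a b) ?_ ?_
  · simp only [NLCx.bcMap, HomologicalComplex.mkHomFromDouble_f₀]
    infer_instance
  · simp only [NLCx.bcMap, HomologicalComplex.mkHomFromDouble_f₁]
    infer_instance

theorem surjective_bcH1Map {ι : Type u} (G : Generators R S ι) (G' : Generators R' S' ι)
    (h : ∀ i, G'.val i = algebraMap S S' (G.val i)) :
    Function.Surjective (NLCx.bcH1Map (S' := S') (NLCx.sameVarsHom G G' h).toExtensionHom) := by
  let f := (NLCx.sameVarsHom G G' h).toExtensionHom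
  rintro ⟨y, hy⟩
  obtain ⟨z, rfl⟩ := cotangent_surjective f _ (ringEquiv_tmul G G' h) y
  refine ⟨⟨z, ?_⟩, Subtype.ext rfl⟩
  refine LinearMap.mem_ker.2 ((bijective_cotangentSpace G G' h).1 (Eq.trans ?_ (map_zero _).symm))
  refine Eq.trans ?_ (LinearMap.mem_ker.1 hy)
  have key : G'.toExtension.cotangentComplex ∘ₗ (Extension.Cotangent.map f).liftBaseChange S' =
      (Extension.CotangentSpace.map f).liftBaseChange S' ∘ₗ G.toExtension.cotangentComplex.baseChange S' := by
    ext w
    simpa using (Extension.CotangentSpace.map_cotangentComplex f w).symm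
  exact (LinearMap.congr_fun key z).symm

/-- The generators of the base change given by all elements. -/
def pushGen : Generators R' S' S :=
  Generators.ofSurjective (algebraMap S S') fun y => by
    obtain ⟨w, rfl⟩ := (Algebra.IsPushout.equiv R R' S S').surjective y
    induction w with
    | zero => exact ⟨0, by simp⟩
    | add a b ha hb =>
      obtain ⟨p, hp⟩ := ha
      obtain ⟨q, hq⟩ := hb
      exact ⟨p + q, by rw [map_add, map_add, hp, hq]⟩
    | tmul t s => exact ⟨C t * X s, by rw [map_mul, aeval_C, aeval_X, Algebra.IsPushout.equiv_tmul]⟩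

end Bc

section Comp

variable {R S R' S' : Type u} [CommRing R] [CommRing S] [CommRing R'] [CommRing S']
  [Algebra R S] [Algebra R' S'] [Algebra R R'] [Algebra S S'] [Algebra R S']
  [IsScalarTower R R' S'] [IsScalarTower R S S']
  {P : Extension.{u} R S} {P₁ P₂ : Extension.{u} R' S'}

theorem bcMap_comp (f : P.Hom P₁) (g : P₁.Hom P₂) :
    NLCx.bcMap f ≫ NLCx.map g = NLCx.bcMap (g.comp f) := by
  refine HomologicalComplex.from_double_hom_ext ?_ ?_
  · simp only [NLCx.bcMap, NLCx.map, HomologicalComplex.comp_f, HomologicalComplex.mkHomFromDouble_f₀,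
      Category.assoc, Iso.inv_hom_id_assoc]
    refine congrArg (_ ≫ ·) ((Category.assoc _ _ _).symm.trans (congrArg (· ≫ _) ?_))
    refine ModuleCat.hom_ext (TensorProduct.AlgebraTensorModule.ext fun t x => ?_)
    change Extension.Cotangent.map g (t • Extension.Cotangent.map f x) = t • Extension.Cotangent.map (g.comp f) x
    rw [map_smul, Extension.Cotangent.map_comp (P'' := P₂) f g]
    rfl
  · simp only [NLCx.bcMap, NLCx.map, HomologicalComplex.comp_f, HomologicalComplex.mkHomFromDouble_f₁,
      Category.assoc, Iso.inv_hom_id_assoc]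
    refine congrArg (_ ≫ ·) ((Category.assoc _ _ _).symm.trans (congrArg (· ≫ _) ?_))
    refine ModuleCat.hom_ext (TensorProduct.AlgebraTensorModule.ext fun t x => ?_)
    change Extension.CotangentSpace.map g (t • Extension.CotangentSpace.map f x) = t • Extension.CotangentSpace.map (g.comp f) x
    rw [map_smul, Extension.CotangentSpace.map_comp f g]
    rfl

theorem map_comp_map {P₀ : Extension.{u} R' S'} (f : P₀.Hom P₁) (g : P₁.Hom P₂) :
    NLCx.map f ≫ NLCx.map g = NLCx.map (g.comp f) := by
  refine HomologicalComplex.from_double_hom_ext ?_ ?_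
  · simp only [NLCx.map, HomologicalComplex.comp_f, HomologicalComplex.mkHomFromDouble_f₀,
      Category.assoc, Iso.inv_hom_id_assoc]
    refine congrArg (_ ≫ ·) ((Category.assoc _ _ _).symm.trans (congrArg (· ≫ _) ?_))
    refine ModuleCat.hom_ext (LinearMap.ext fun x => ?_)
    exact (LinearMap.congr_fun (Extension.Cotangent.map_comp (P'' := P₂) f g) x).symm
  · simp only [NLCx.map, HomologicalComplex.comp_f, HomologicalComplex.mkHomFromDouble_f₁,
      Category.assoc, Iso.inv_hom_id_assoc]
    refine congrArg (_ ≫ ·) ((Category.assoc _ _ _).symm.trans (congrArg (· ≫ _) ?_))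
    refine ModuleCat.hom_ext (LinearMap.ext fun x => ?_)
    exact (LinearMap.congr_fun (Extension.CotangentSpace.map_comp f g) x).symm

theorem map_id (P₀ : Extension.{u} R' S') : NLCx.map (Extension.Hom.id P₀) = 𝟙 (NLCx.cx P₀) := by
  refine HomologicalComplex.from_double_hom_ext ?_ ?_
  · simp only [NLCx.map, HomologicalComplex.mkHomFromDouble_f₀, Extension.Cotangent.map_id, ModuleCat.ofHom_id,
      Category.id_comp, Iso.hom_inv_id, HomologicalComplex.id_f]
    rfl
  · simp only [NLCx.map, HomologicalComplex.mkHomFromDouble_f₁, Extension.CotangentSpace.map_id, ModuleCat.ofHom_id,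
      Category.id_comp, Iso.hom_inv_id, HomologicalComplex.id_f]
    rfl

/-- The maps of two morphisms of presentations are homotopic. -/
def homotopyMap (f g : P₁.Hom P₂) : Homotopy (NLCx.map f) (NLCx.map g) :=
  homotopyTwo _ _ (ModuleCat.ofHom (f.sub g) ≫
      (HomologicalComplex.doubleXIso₀ (ModuleCat.ofHom P₂.cotangentComplex) _).inv)
    (fun i h₀ h₁ => isZero_cx_X P₂ i h₀ h₁)
    (by
      simp only [NLCx.map, HomologicalComplex.mkHomFromDouble_f₀, ← Preadditive.comp_sub, ← Preadditive.sub_comp]
      refine congrArg (_ ≫ ·) ((congrArg (· ≫ _) ?_).trans (Category.assoc _ _ _))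
      refine ModuleCat.hom_ext (LinearMap.ext fun x => ?_)
      exact LinearMap.congr_fun (Algebra.Extension.Cotangent.map_sub_map f g) x)
    (by
      simp only [NLCx.map, HomologicalComplex.mkHomFromDouble_f₁, ← Preadditive.comp_sub, ← Preadditive.sub_comp]
      rw [show (NLCx.cx P₂).d (-1) 0 = _ from HomologicalComplex.double_d _ _ (by decide)]
      simp only [Category.assoc, Iso.inv_hom_id_assoc]
      refine congrArg (_ ≫ ·) ((congrArg (· ≫ _) ?_).trans (Category.assoc _ _ _))
      refine ModuleCat.hom_ext (LinearMap.ext fun x => ?_)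
      exact LinearMap.congr_fun (Algebra.Extension.CotangentSpace.map_sub_map f g) x)

/-- Two presentations of the same algebra have homotopy equivalent complexes. -/
def homotopyEquiv (f : P₁.Hom P₂) (g : P₂.Hom P₁) : HomotopyEquiv (NLCx.cx P₁) (NLCx.cx P₂) where
  hom := NLCx.map f
  inv := NLCx.map g
  homotopyHomInvId := (Homotopy.ofEq (map_comp_map f g)).trans
    ((homotopyMap (g.comp f) (Extension.Hom.id P₁)).trans (Homotopy.ofEq (map_id P₁)))
  homotopyInvHomId := (Homotopy.ofEq (map_comp_map g f)).trans
    ((homotopyMap (f.comp g) (Extension.Hom.id P₂)).trans (Homotopy.ofEq (map_id P₂)))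

variable (R S R' S') [Algebra.IsPushout R R' S S']

/-- The canonical map for the presentations on all elements is a homotopy equivalence. -/
def selfEquiv (hfl : Module.Flat R R' ∨ Module.Flat R S) :
    HomotopyEquiv (NLCx.bcCx (Generators.self R S).toExtension S')
      (NLCx.cx (Generators.self R' S').toExtension) :=
  let G' := pushGen (R := R) (S := S) (R' := R') (S' := S')
  let s := (NLCx.sameVarsHom (Generators.self R S) G' fun _ => rfl).toExtensionHom
  haveI := isIso_bcMap (Generators.self R S) G' (fun _ => rfl) hfl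
  let e₀ := (HomotopyEquiv.ofIso (asIso (NLCx.bcMap (S' := S') s))).trans
    (homotopyEquiv (G'.defaultHom (Generators.self R' S')).toExtensionHom
      ((Generators.self R' S').defaultHom G').toExtensionHom)
  let h : Homotopy (NLCx.bcMapSelf R S R' S') e₀.hom :=
    (homotopyBcMap ((Generators.self R S).defaultHom (Generators.self R' S')).toExtensionHom
      ((G'.defaultHom (Generators.self R' S')).toExtensionHom.comp s)).trans
      (Homotopy.ofEq (bcMap_comp s (G'.defaultHom (Generators.self R' S')).toExtensionHom).symm)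
  { hom := NLCx.bcMapSelf R S R' S'
    inv := e₀.inv
    homotopyHomInvId := (h.compRight e₀.inv).trans e₀.homotopyHomInvId
    homotopyInvHomId := (h.compLeft e₀.inv).trans e₀.homotopyInvHomId }

end Comp

end NLBCLib
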